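import Cfsg.Agent.Lib.J4Rep72.Rep
import Cfsg.Prelude.Def_Sporadic

/-!
A faithful representation of the presented `J₄` of dimension 112, given that the group is simple.
-/

set_option autoImplicit false

namespace Cfsg.Agent.Lib.J4M24Iso96

set_option maxRecDepth 20000 in
theorem rep_x_ne_one : Cfsg.Agent.Lib.J4Rep72.rep (PresentedGroup.of Cfsg.Spor.J4.Gen.x) ≠ 1 := by
  intro h1
  rw [J4Rep72.rep, PresentedGroup.toGroup.of] at h1
  have h2 := congrArg
    (fun u : (Matrix (Fin 112) (Fin 112) (ZMod 2))ˣ => (u : Matrix (Fin 112) (Fin 112) (ZMod 2))) h1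
  have h3 : J4Rep72.toMat (J4Rep72.matLet 0) ≠ 1 := by
    intro he
    have e := congrFun (congrFun he ⟨0, by omega⟩) ⟨1, by omega⟩
    rw [Matrix.one_apply_ne (by simp [Fin.ext_iff])] at e
    unfold J4Rep72.toMat J4Rep72.matLet at e
    revert e
    decide +kernel
  exact h3 h2

/-- A simple group with a homomorphism not killing an element is isomorphic to the range. -/
theorem exists_range {J M : Type*} [Group J] [Group M] (φ : J →* M) {z : J} (hz : φ z ≠ 1) {N : ℕ}
    (hs : IsSimpleGroup J) (hc : Nat.card J = N) :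
    ∃ H : Subgroup M, IsSimpleGroup ↥H ∧ Nat.card ↥H = N := by
  have hinj : Function.Injective φ := by
    rw [← MonoidHom.ker_eq_bot_iff]
    refine (hs.eq_bot_or_eq_top_of_normal _ φ.normal_ker).resolve_right fun e => hz ?_
    exact MonoidHom.mem_ker.1 (e ▸ Subgroup.mem_top _)
  let e := MonoidHom.ofInjective hinj
  exact ⟨φ.range, e.symm.isSimpleGroup, (Nat.card_congr e.toEquiv).symm.trans hc⟩

attribute [local irreducible] J4Rep72.rep

/-- The matrix group is of type `J₄` once the presented group is. -/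
theorem exists_subgroup_gl (h : Cfsg.IsJ4 Cfsg.Spor.J4) :
    ∃ H : Subgroup (GL (Fin 112) (ZMod 2)), Cfsg.IsJ4 H :=
  exists_range (J := Cfsg.Spor.J4) (M := GL (Fin 112) (ZMod 2)) (N := 86775571046077562880) J4Rep72.rep
    rep_x_ne_one h.1 h.2

end Cfsg.Agent.Lib.J4M24Iso96
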